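import Mathlib
import Cfsg.Agent.Lib.Helper45.S3Amal.NDefs

/-!
# S2858 claim (N), package NZ: some central involution of `Q₂` is not central in `L`
-/

set_option autoImplicit false
set_option linter.style.haveILetI false

namespace Cfsg.Agent.Lib.Helper97.S3Amal

open Cfsg.Agent.Lib.Helper71.Sym Cfsg.Agent.Lib.Helper45.S3Amal

universe u

/-- `Ω₁(Z(Q))` as a subgroup: the central elements of `Q` with square `1` -/
def omegaZ {G : Type*} [Group G] (Q : Subgroup G) : Subgroup G where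
  carrier := {z | z ∈ Q ∧ z * z = 1 ∧ ∀ s ∈ Q, z * s = s * z}
  mul_mem' := by
    rintro a b ⟨ha, ha2, hac⟩ ⟨hb, hb2, hbc⟩
    refine ⟨Q.mul_mem ha hb, ?_, ?_⟩
    · calc a * b * (a * b) = a * (b * a) * b := by group
        _ = a * (a * b) * b := by rw [hbc a ha]
        _ = (a * a) * (b * b) := by group
        _ = 1 := by rw [ha2, hb2, one_mul]
    · intro s hs
      calc a * b * s = a * (b * s) := by group
        _ = a * (s * b) := by rw [hbc s hs]
        _ = (a * s) * b := by group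
        _ = (s * a) * b := by rw [hac s hs]
        _ = s * (a * b) := by group
  one_mem' := ⟨Q.one_mem, by simp, by simp⟩
  inv_mem' := by
    rintro a ⟨ha, ha2, hac⟩
    refine ⟨Q.inv_mem ha, ?_, ?_⟩
    · calc a⁻¹ * a⁻¹ = (a * a)⁻¹ := by group
        _ = 1 := by rw [ha2, inv_one]
    · intro s hs
      calc a⁻¹ * s = a⁻¹ * (s * a) * a⁻¹ := by group
        _ = a⁻¹ * (a * s) * a⁻¹ := by rw [hac s hs]
        _ = s * a⁻¹ := by group

theorem mem_omegaZ {G : Type*} [Group G] {Q : Subgroup G} {z : G} :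
    z ∈ omegaZ Q ↔ z ∈ Q ∧ z * z = 1 ∧ ∀ s ∈ Q, z * s = s * z := Iff.rfl

/-- `Ω₁(Z(Q))` is normalized by everything normalizing `Q` -/
theorem conj_mem_omegaZ {G : Type*} [Group G] {Q : Subgroup G} {h : G}
    (hh : ∀ q ∈ Q, h * q * h⁻¹ ∈ Q) (hh' : ∀ q ∈ Q, h⁻¹ * q * h ∈ Q) {z : G}
    (hz : z ∈ omegaZ Q) : h * z * h⁻¹ ∈ omegaZ Q := by
  obtain ⟨hzQ, hz2, hzc⟩ := hz
  refine ⟨hh z hzQ, ?_, ?_⟩
  · calc h * z * h⁻¹ * (h * z * h⁻¹) = h * (z * z) * h⁻¹ := by group
      _ = 1 := by rw [hz2]; group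
  · intro s hs
    have h1 := hzc _ (hh' s hs)
    calc h * z * h⁻¹ * s = h * (z * (h⁻¹ * s * h)) * h⁻¹ := by group
      _ = h * ((h⁻¹ * s * h) * z) * h⁻¹ := by rw [h1]
      _ = s * (h * z * h⁻¹) := by group

/-- package NZ of claim (N) -/
theorem pkgNZ : PkgNZ.{u} := by
  intro G _ P₁ P₂ T Q₁ Q₂ L hA₁ hA₂ hZ₁ hZ₂ hcore hQL hLP hLcard
  by_contra hcon
  push Not at hcon
  haveI := hA₁.fin
  haveI : Finite ↥T := Finite.of_injective (Subgroup.inclusion hA₁.hTH)
    (Subgroup.inclusion_injective _)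
  -- `Ω₁(Z(Q₂))` is normalized by `P₂`
  have hnP₂ : Nz P₂ (omegaZ Q₂) := by
    intro h hh z hz
    refine conj_mem_omegaZ (fun q hq => hA₂.hQn h hh q hq) (fun q hq => ?_) hz
    have := hA₂.hQn h⁻¹ (P₂.inv_mem hh) q hq
    simpa using this
  -- `L` centralizes it
  have hLc : ∀ l ∈ L, ∀ z ∈ omegaZ Q₂, l * z * l⁻¹ = z := by
    intro l hl z hz
    rw [hcon z hz.1 hz.2.1 hz.2.2 l hl]
    group
  -- `L ⊔ T = P₁`
  have hLT : ¬ L ≤ T := by
    intro hle
    have h1 : Nat.card ↥L ∣ Nat.card ↥T := Subgroup.card_dvd_of_le hle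
    obtain ⟨k, hk⟩ := (IsPGroup.iff_card (p := 2) (G := ↥T)).1 hA₁.hT2
    rw [hLcard, hk] at h1
    have h3 : 3 ∣ 2 ^ k := Dvd.dvd.trans (Dvd.intro _ rfl) h1
    have h4 := (Nat.Prime.dvd_of_dvd_pow (by norm_num : Nat.Prime 3) h3)
    omega
  have hsup : L ⊔ T = P₁ := by
    rcases hZ₁.maxT (L ⊔ T) le_sup_right (sup_le hLP hA₁.hTH) with h | h
    · exact absurd (h ▸ le_sup_left : L ≤ T) hLT
    · exact h
  -- hence it is normalized by `P₁`
  have hnP₁ : Nz P₁ (omegaZ Q₂) := by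
    have hle : P₁ ≤ Subgroup.normalizer ((omegaZ Q₂ : Subgroup G) : Set G) := by
      rw [← hsup]
      refine sup_le ?_ ?_
      · intro l hl
        rw [Subgroup.mem_normalizer_iff]
        intro n
        constructor
        · intro hn
          rw [hLc l hl n hn]
          exact hn
        · intro hn
          have h1 := hLc l⁻¹ (L.inv_mem hl) _ hn
          have h2 : l⁻¹ * (l * n * l⁻¹) * l⁻¹⁻¹ = n := by group
          rw [h2] at h1
          rw [h1]
          exact hn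
      · intro t ht
        rw [Subgroup.mem_normalizer_iff]
        intro n
        constructor
        · intro hn
          exact hnP₂ t (hA₂.hTH ht) n hn
        · intro hn
          have h1 := hnP₂ t⁻¹ (P₂.inv_mem (hA₂.hTH ht)) _ hn
          have h2 : t⁻¹ * (t * n * t⁻¹) * t⁻¹⁻¹ = n := by group
          rw [h2] at h1
          exact h1
    intro h hh z hz
    exact (Subgroup.mem_normalizer_iff.1 (hle hh) z).1 hz
  -- so it is trivial
  have hbot : omegaZ Q₂ = ⊥ :=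
    hcore (omegaZ Q₂) (fun z hz => hA₂.hQT hz.1) hnP₁ hnP₂
  -- contradiction with `hZ` of the second amalgam
  obtain ⟨z, hzT, hz2, hzc, h, hh, hne⟩ := hA₂.hZ
  have hzQ : z ∈ Q₂ := hA₂.hCQ z (hA₂.hTH hzT) (fun q hq => hzc q (hA₂.hQT hq))
  have hz1 : z ∈ omegaZ Q₂ := ⟨hzQ, hz2, fun s hs => hzc s (hA₂.hQT hs)⟩
  rw [hbot, Subgroup.mem_bot] at hz1
  apply hne
  rw [hz1, mul_one, one_mul]

end Cfsg.Agent.Lib.Helper97.S3Amal
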