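import Mathlib
import Cfsg.Agent.Lib.Helper45.S3Amal.NDefs

/-!
# S2858 claim (N), package NS: an element of `bT` swapping the cosets `T` and `bT`
-/

set_option autoImplicit false
set_option linter.style.haveILetI false

namespace Cfsg.Agent.Lib.Helper97.S3Amal

open Cfsg.Agent.Lib.Helper71.Sym Cfsg.Agent.Lib.Helper45.S3Amal

universe u

/-- a subgroup of index 3 with `b ∉ T`, `b² ∉ T`: the cosets are `T`, `bT`, `b⁻¹T` -/
theorem three_cosets {P : Type*} [Group P] (T : Subgroup P) (h3 : T.index = 3) (b : P)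
    (hb : b ∉ T) (hb2 : b * b ∉ T) (x : P) : x ∈ T ∨ b⁻¹ * x ∈ T ∨ b * x ∈ T := by
  classical
  have hcard : Nat.card (P ⧸ T) = 3 := by rw [← Subgroup.index_eq_card]; exact h3
  haveI : Finite (P ⧸ T) := Nat.finite_of_card_ne_zero (by omega)
  let u : Fin 3 → P := ![1, b, b⁻¹]
  have hinj : Function.Injective (fun i : Fin 3 => ((u i : P) : P ⧸ T)) := by
    intro i j hij
    have hij' : (u i)⁻¹ * u j ∈ T := QuotientGroup.eq.1 hij
    have h02 : b⁻¹ ∉ T := fun h => hb (by simpa using T.inv_mem h)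
    have h12 : b⁻¹ * b⁻¹ ∉ T := fun h => hb2 (by simpa using T.inv_mem h)
    fin_cases i <;> fin_cases j <;> first | rfl | (exfalso; simp [u] at hij'; tauto)
  have hbij := hinj.bijective_of_nat_card_le (by rw [hcard]; simp)
  obtain ⟨i, hi⟩ := hbij.2 (x : P ⧸ T)
  have hi' : (u i)⁻¹ * x ∈ T := QuotientGroup.eq.1 hi
  fin_cases i
  · left; simpa [u] using hi'
  · right; left; simpa [u] using hi'
  · right; right; simpa [u] using hi'

/-- package NS of claim (N) -/
theorem pkgNS : PkgNS.{u} := by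
  intro G _ P T Q hA hZ b hbP hbT
  by_cases hb2 : b * b ∈ T
  · exact ⟨b, hbP, by simp [T.one_mem], hb2⟩
  · haveI := hA.fin
    haveI : Finite ↥T := Finite.of_injective (Subgroup.inclusion hA.hTH)
      (Subgroup.inclusion_injective _)
    have hidx : (T.subgroupOf P).index = 3 := by
      have h1 := (T.subgroupOf P).card_mul_index
      have h2 : Nat.card (T.subgroupOf P) = Nat.card T :=
        Nat.card_congr (Subgroup.subgroupOfEquivOfLe hA.hTH).toEquiv
      rw [h2, hA.hHT] at h1
      have hpos : 0 < Nat.card T := Nat.card_pos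
      exact Nat.eq_of_mul_eq_mul_left hpos (by rw [h1]; ring)
    obtain ⟨s, hsT, hsQ⟩ := hZ.exists_TQ
    have hsP : s ∈ P := hA.hTH hsT
    have h3 := three_cosets (T.subgroupOf P) hidx ⟨b, hbP⟩
      (by simpa [Subgroup.mem_subgroupOf] using hbT)
      (by simpa [Subgroup.mem_subgroupOf] using hb2) ⟨s * b, P.mul_mem hsP hbP⟩
    simp only [Subgroup.mem_subgroupOf, Subgroup.coe_mul, Subgroup.coe_inv] at h3
    rcases h3 with h | h | h
    · exfalso
      apply hbT
      have := T.mul_mem (T.inv_mem hsT) h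
      simpa using this
    · exfalso
      apply hsQ
      exact hZ.inter b⁻¹ (P.inv_mem hbP) (by simpa using hbT) s hsT
        (by simpa [mul_assoc] using h)
    · refine ⟨b * s, P.mul_mem hbP hsP, ?_, ?_⟩
      · have h4 : (b * s)⁻¹ * b = s⁻¹ := by group
        rw [h4]
        exact T.inv_mem hsT
      · simpa [mul_assoc] using h

end Cfsg.Agent.Lib.Helper97.S3Amal
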