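import Mathlib
import Cfsg.Agent.Lib.Helper45.S3Amal.NDefs

/-!
# S2858 claim (N), package NT: conjugation transport of `LAmal`
-/

set_option autoImplicit false

namespace Cfsg.Agent.Lib.Helper97.S3Amal

open Cfsg.Agent.Lib.Helper71.Sym Cfsg.Agent.Lib.Helper45.S3Amal

universe u

/-- conjugation transport of `LAmal` -/
theorem lAmal_cj {G : Type u} [Group G] (H T Q : Subgroup G) (a : G) (hA : LAmal H T Q) :
    LAmal (cj a H) (cj a T) (cj a Q) := by
  have hfin := hA.fin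
  refine ⟨?_, cj_mono hA.hQT a, cj_mono hA.hTH a, ?_, ?_, ?_, ?_, ?_, ?_, ?_⟩
  · exact Finite.of_equiv H
      (H.equivMapOfInjective (MulAut.conj a).toMonoidHom (MulAut.conj a).injective).toEquiv
  · intro h hh q hq
    rw [mem_cj] at hh hq ⊢
    have h1 := hA.hQn _ hh _ hq
    have h2 : a⁻¹ * (h * q * h⁻¹) * a = a⁻¹ * h * a * (a⁻¹ * q * a) * (a⁻¹ * h * a)⁻¹ := by group
    rw [h2]
    exact h1
  · exact hA.hT2.map _
  · rw [card_cj, card_cj]
    exact hA.hTQ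
  · rw [card_cj, card_cj]
    exact hA.hHT
  · obtain ⟨h, hh, t, ht, hn⟩ := hA.hTn
    refine ⟨a * h * a⁻¹, conj_mem_cj hh, a * t * a⁻¹, conj_mem_cj ht, ?_⟩
    rw [mem_cj]
    intro hc
    apply hn
    have h2 : a⁻¹ * (a * h * a⁻¹ * (a * t * a⁻¹) * (a * h * a⁻¹)⁻¹) * a = h * t * h⁻¹ := by group
    rw [h2] at hc
    exact hc
  · intro g hg hc
    rw [mem_cj] at hg ⊢
    apply hA.hCQ _ hg
    intro q hq
    have h1 := hc (a * q * a⁻¹) (conj_mem_cj hq)
    calc a⁻¹ * g * a * q = a⁻¹ * (g * (a * q * a⁻¹)) * a := by group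
      _ = a⁻¹ * ((a * q * a⁻¹) * g) * a := by rw [h1]
      _ = q * (a⁻¹ * g * a) := by group
  · obtain ⟨z, hz, hz2, hzc, h, hh, hne⟩ := hA.hZ
    refine ⟨a * z * a⁻¹, conj_mem_cj hz, ?_, ?_, a * h * a⁻¹, conj_mem_cj hh, ?_⟩
    · calc a * z * a⁻¹ * (a * z * a⁻¹) = a * (z * z) * a⁻¹ := by group
        _ = 1 := by rw [hz2]; group
    · intro t ht
      rw [mem_cj] at ht
      have h1 := hzc _ ht
      calc a * z * a⁻¹ * t = a * (z * (a⁻¹ * t * a)) * a⁻¹ := by group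
        _ = a * ((a⁻¹ * t * a) * z) * a⁻¹ := by rw [h1]
        _ = t * (a * z * a⁻¹) := by group
    · intro hc
      apply hne
      calc h * z = a⁻¹ * ((a * h * a⁻¹) * (a * z * a⁻¹)) * a := by group
        _ = a⁻¹ * ((a * z * a⁻¹) * (a * h * a⁻¹)) * a := by rw [hc]
        _ = z * h := by group

/-- package NT of claim (N) -/
theorem pkgNT : PkgNT.{u} := by
  intro G _ H T Q a hA
  exact lAmal_cj H T Q a hA

end Cfsg.Agent.Lib.Helper97.S3Amal
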